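/-
Packed arithmetic for square matrices over `ZMod 7`: a matrix is one natural number, a row of `n` fields of
width `w` for each index.
-/
import Mathlib
import Cfsg.Agent.Lib.Chev.OfCheck

set_option autoImplicit false

namespace CfsgLib.ON45

open CfsgLib.Chev

/-- The matrix of natural numbers `f`, packed: entry `(i, k)` sits at bit `w n i + w k`. -/
def enc (n w : ℕ) (f : Fin n → Fin n → ℕ) : ℕ :=
  ∑ i : Fin n, (∑ k : Fin n, f i k * (2 ^ w) ^ (k : ℕ)) * (2 ^ (w * n)) ^ (i : ℕ)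

theorem digit_sum {B : ℕ} (hB : 0 < B) : ∀ {n : ℕ} (f : Fin n → ℕ), (∀ i, f i < B) →
    (∑ i : Fin n, f i * B ^ (i : ℕ)) < B ^ n ∧
      ∀ j : Fin n, (∑ i : Fin n, f i * B ^ (i : ℕ)) / B ^ (j : ℕ) % B = f j := by
  intro n
  induction n with
  | zero => exact fun f _ => ⟨by simp, fun j => j.elim0⟩
  | succ n ih =>
    intro f hf
    obtain ⟨h1, h2⟩ := ih (fun i => f i.succ) fun i => hf _
    have e : (∑ i : Fin (n + 1), f i * B ^ (i : ℕ)) =
        f 0 + B * ∑ i : Fin n, f i.succ * B ^ (i : ℕ) := by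
      rw [Fin.sum_univ_succ, Finset.mul_sum]
      simp [pow_succ]
      exact Finset.sum_congr rfl fun i _ => by ring
    rw [e]
    generalize hS : (∑ i : Fin n, f i.succ * B ^ (i : ℕ)) = S at h1 h2
    refine ⟨?_, fun j => ?_⟩
    · have := hf 0
      calc f 0 + B * S < B * (S + 1) := by rw [mul_add, mul_one]; omega
        _ ≤ B * B ^ n := Nat.mul_le_mul_left _ h1
        _ = B ^ (n + 1) := by ring
    · refine Fin.cases ?_ (fun i => ?_) j
      · simp [Nat.mod_eq_of_lt (hf 0)]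
      · rw [Fin.val_succ, pow_succ', ← Nat.div_div_eq_div_mul, Nat.add_mul_div_left _ _ hB,
          Nat.div_eq_of_lt (hf 0), zero_add]
        exact h2 i

theorem eq_sum_digits {B : ℕ} (hB : 0 < B) : ∀ (n x : ℕ), x < B ^ n →
    x = ∑ i : Fin n, x / B ^ (i : ℕ) % B * B ^ (i : ℕ) := by
  intro n
  induction n with
  | zero => intro x hx; simp at hx; simp [hx]
  | succ n ih =>
    intro x hx
    rw [Fin.sum_univ_succ]
    have h := ih (x / B) (Nat.div_lt_of_lt_mul (by rwa [← pow_succ']))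
    calc x = x % B + B * (x / B) := (Nat.mod_add_div x B).symm
      _ = _ := by
        conv_lhs => arg 2; rw [h]
        rw [Finset.mul_sum]
        simp [pow_succ', ← Nat.div_div_eq_div_mul]
        exact Finset.sum_congr rfl fun i _ => by ring

variable {n w : ℕ}

theorem inner_lt {f : Fin n → Fin n → ℕ} (hf : ∀ i k, f i k < 2 ^ w) (i : Fin n) :
    (∑ k : Fin n, f i k * (2 ^ w) ^ (k : ℕ)) < 2 ^ (w * n) := by
  rw [pow_mul]; exact (digit_sum (Nat.two_pow_pos w) (f i) (hf i)).1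

theorem enc_lt {f : Fin n → Fin n → ℕ} (hf : ∀ i k, f i k < 2 ^ w) : enc n w f < 2 ^ (w * n * n) := by
  rw [pow_mul _ (w * n) n]; exact (digit_sum (Nat.two_pow_pos _) _ (inner_lt hf)).1

theorem row_enc {f : Fin n → Fin n → ℕ} (hf : ∀ i k, f i k < 2 ^ w) (i : Fin n) :
    enc n w f / 2 ^ (w * n * (i : ℕ)) % 2 ^ (w * n) = ∑ k : Fin n, f i k * (2 ^ w) ^ (k : ℕ) := by
  rw [pow_mul _ (w * n)]; exact (digit_sum (Nat.two_pow_pos _) _ (inner_lt hf)).2 i

theorem sub_digit {a b c : ℕ} (x : ℕ) (h : b + c ≤ a) :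
    x % 2 ^ a / 2 ^ b % 2 ^ c = x / 2 ^ b % 2 ^ c := by
  obtain ⟨d, rfl⟩ := Nat.exists_eq_add_of_le h
  rw [show b + c + d = b + (c + d) by ring, pow_add, Nat.mod_mul_right_div_self,
    Nat.mod_mod_of_dvd _ (pow_dvd_pow 2 (Nat.le_add_right c d))]

theorem slot_le (k : Fin n) : w * (k : ℕ) + w ≤ w * n := by
  calc w * (k : ℕ) + w = w * ((k : ℕ) + 1) := by ring
    _ ≤ w * n := Nat.mul_le_mul_left _ k.2

theorem entry_enc {f : Fin n → Fin n → ℕ} (hf : ∀ i k, f i k < 2 ^ w) (i k : Fin n) :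
    enc n w f / 2 ^ (w * n * (i : ℕ) + w * (k : ℕ)) % 2 ^ w = f i k := by
  rw [pow_add, ← Nat.div_div_eq_div_mul, ← sub_digit _ (slot_le k), row_enc hf i, pow_mul]
  exact (digit_sum (Nat.two_pow_pos w) (f i) (hf i)).2 k

theorem eq_enc {x : ℕ} (hx : x < 2 ^ (w * n * n)) {f : Fin n → Fin n → ℕ}
    (h : ∀ i k : Fin n, x / 2 ^ (w * n * (i : ℕ) + w * (k : ℕ)) % 2 ^ w = f i k) : x = enc n w f := by
  rw [eq_sum_digits (B := 2 ^ (w * n)) (Nat.two_pow_pos _) n x (by rwa [← pow_mul]), enc]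
  refine Finset.sum_congr rfl fun i _ => ?_
  congr 1
  rw [eq_sum_digits (B := 2 ^ w) (Nat.two_pow_pos _) n (x / (2 ^ (w * n)) ^ (i : ℕ) % 2 ^ (w * n))
    (by rw [← pow_mul 2 w n]; exact Nat.mod_lt _ (Nat.two_pow_pos _))]
  refine Finset.sum_congr rfl fun k _ => ?_
  congr 1
  rw [← pow_mul, ← pow_mul, sub_digit _ (slot_le k), Nat.div_div_eq_div_mul, ← pow_add]
  exact h i k

theorem col_eq {cm : ℕ} (hcm : cm = enc n w fun _ k => if (k : ℕ) = 0 then 2 ^ w - 1 else 0)
    {f : Fin n → Fin n → ℕ} (hf : ∀ i k, f i k < 2 ^ w) (j : Fin n) :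
    (enc n w f >>> (w * (j : ℕ))) &&& cm = ∑ i : Fin n, f i j * 2 ^ (w * n * (i : ℕ)) := by
  subst hcm
  set g : Fin n → Fin n → ℕ := fun i k => if (k : ℕ) = 0 then f i j else 0 with hg
  have hc : ∀ i k : Fin n, (if (k : ℕ) = 0 then 2 ^ w - 1 else 0) < 2 ^ w := by
    intro i k; have := Nat.two_pow_pos w; split <;> omega
  refine Eq.trans (eq_enc (f := g) (Nat.and_le_right.trans_lt (enc_lt hc)) fun i k => ?_) ?_
  · rw [← Nat.shiftRight_eq_div_pow, Nat.shiftRight_and_distrib, ← Nat.shiftRight_add,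
      Nat.and_mod_two_pow, Nat.shiftRight_eq_div_pow, Nat.shiftRight_eq_div_pow,
      entry_enc hc i k, hg]
    simp only
    by_cases hk : (k : ℕ) = 0
    · rw [if_pos hk, if_pos hk, Nat.and_two_pow_sub_one_eq_mod, Nat.mod_mod,
        show w * (j : ℕ) + (w * n * (i : ℕ) + w * (k : ℕ)) = w * n * i + w * j by rw [hk]; ring]
      exact entry_enc hf i j
    · simp [hk]
  · rw [enc]
    refine Finset.sum_congr rfl fun i _ => ?_
    have hn : 0 < n := lt_of_le_of_lt (Nat.zero_le _) j.2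
    rw [Finset.sum_eq_single (⟨0, hn⟩ : Fin n) (fun k _ hk => by
      have : (k : ℕ) ≠ 0 := fun h => hk (Fin.ext h)
      simp [hg, this]) (by simp), pow_mul _ (w * n)]
    simp [hg]

theorem row_eq {f : Fin n → Fin n → ℕ} (hf : ∀ i k, f i k < 2 ^ w) (j : Fin n) :
    (enc n w f >>> (w * n * (j : ℕ))) &&& (2 ^ (w * n) - 1) = ∑ k : Fin n, f j k * 2 ^ (w * (k : ℕ)) := by
  rw [Nat.and_two_pow_sub_one_eq_mod, Nat.shiftRight_eq_div_pow, row_enc hf j]
  simp only [← pow_mul]

theorem prod_enc {cm : ℕ} (hcm : cm = enc n w fun _ k => if (k : ℕ) = 0 then 2 ^ w - 1 else 0)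
    {a b : Fin n → Fin n → ℕ} (ha : ∀ i k, a i k < 2 ^ w) (hb : ∀ i k, b i k < 2 ^ w) :
    ∑ j : Fin n, ((enc n w a >>> (w * (j : ℕ))) &&& cm) *
      ((enc n w b >>> (w * n * (j : ℕ))) &&& (2 ^ (w * n) - 1)) = enc n w fun i k => ∑ j : Fin n, a i j * b j k := by
  simp only [col_eq hcm ha, row_eq hb]; rw [enc]
  rw [Finset.sum_congr rfl fun j _ => Finset.sum_mul_sum _ _ _ _, Finset.sum_comm]
  refine Finset.sum_congr rfl fun i _ => ?_
  rw [Finset.sum_mul, Finset.sum_comm]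
  refine Finset.sum_congr rfl fun k _ => ?_
  rw [Finset.sum_mul, Finset.sum_mul]
  refine Finset.sum_congr rfl fun j _ => ?_
  rw [← pow_mul, ← pow_mul]; ring

theorem div_seven : ∀ c < 1621, c * 2341 / 2 ^ 14 % 2 ^ 8 = c / 7 := by decide +kernel

theorem mod_enc {dm : ℕ} (hw : 22 ≤ w) (hdm : dm = enc n w fun _ _ => 255)
    {c : Fin n → Fin n → ℕ} (hc : ∀ i k, c i k ≤ 1620) :
    enc n w c - 7 * (((enc n w c * 2341) >>> 14) &&& dm) = enc n w fun i k => c i k % 7 := by
  subst hdm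
  have h1 : enc n w c * 2341 = enc n w fun i k => c i k * 2341 := by
    simp only [enc, Finset.sum_mul]
    refine Finset.sum_congr rfl fun i _ => Finset.sum_congr rfl fun k _ => ?_
    ring
  have h22 : 2 ^ 22 ≤ 2 ^ w := Nat.pow_le_pow_right (by norm_num) hw
  have hmul : ∀ i k, c i k * 2341 < 2 ^ w := fun i k => by have := hc i k; omega
  have h255 : ∀ _i _k : Fin n, 255 < 2 ^ w := fun _ _ => by omega
  have h2 : (enc n w c * 2341) >>> 14 &&& (enc n w fun _ _ => 255) = enc n w fun i k => c i k / 7 := by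
    refine eq_enc (Nat.and_le_right.trans_lt (enc_lt h255)) fun i k => ?_
    rw [← Nat.shiftRight_eq_div_pow, Nat.shiftRight_and_distrib, ← Nat.shiftRight_add,
      Nat.and_mod_two_pow, Nat.shiftRight_eq_div_pow, Nat.shiftRight_eq_div_pow,
      entry_enc h255 i k, show (255 : ℕ) = 2 ^ 8 - 1 from rfl, Nat.and_two_pow_sub_one_eq_mod,
      Nat.mod_mod_of_dvd _ (pow_dvd_pow 2 (by omega : 8 ≤ w)), h1]
    set e := w * n * (i : ℕ) + w * (k : ℕ) with he
    rw [add_comm 14 e, pow_add, ← Nat.div_div_eq_div_mul, ← sub_digit _ (show 14 + 8 ≤ w by omega),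
      entry_enc hmul i k]
    exact div_seven _ (Nat.lt_succ_of_le (hc i k))
  have h3 : enc n w c = (enc n w fun i k => c i k % 7) + 7 * enc n w fun i k => c i k / 7 := by
    simp only [enc, Finset.mul_sum, Finset.sum_mul, ← Finset.sum_add_distrib]
    refine Finset.sum_congr rfl fun i _ => Finset.sum_congr rfl fun k _ => ?_
    nth_rewrite 1 [← Nat.mod_add_div (c i k) 7]
    ring
  rw [h2]
  omega

theorem rec_sum (f : ℕ → ℕ) : ∀ m : ℕ,
    (Nat.rec 0 (fun j acc => acc + f j) m : ℕ) = ∑ j ∈ Finset.range m, f j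
  | 0 => rfl
  | m + 1 => by rw [Finset.sum_range_succ, ← rec_sum f m]

/-- The product before reduction modulo 7, the mask `cm` picking out one column. -/
noncomputable def rawMul (n w cm A B : ℕ) : ℕ :=
  force cm fun cm' => force A fun A' => force B fun B' => force (2 ^ (w * n) - 1) fun rm => Nat.rec (nat_lit 0)
    (fun j acc => acc + (((A' >>> (w * j)) &&& cm') * ((B' >>> (w * n * j)) &&& rm))) n

/-- The packed product. -/
noncomputable def mulG (n w cm dm A B : ℕ) : ℕ :=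
  force (rawMul n w cm A B) fun y => y - 7 * (((y * 2341) >>> 14) &&& dm)

/-- Packing of a matrix over `ZMod 7`. -/
def encM (n w : ℕ) (M : Matrix (Fin n) (Fin n) (ZMod 7)) : ℕ := enc n w fun i k => (M i k).val

theorem val_lt (hw : 22 ≤ w) (x : ZMod 7) : x.val < 2 ^ w :=
  (ZMod.val_lt x).trans_le (le_trans (by norm_num) (Nat.pow_le_pow_right (by norm_num) hw))

theorem encM_injective (hw : 22 ≤ w) : Function.Injective (encM n w) := by
  intro M N h
  ext i k
  apply ZMod.val_injective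
  have h1 := entry_enc (f := fun i k => (M i k).val) (fun _ _ => val_lt hw _) i k
  have h2 := entry_enc (f := fun i k => (N i k).val) (fun _ _ => val_lt hw _) i k
  exact (h1.symm.trans (by rw [show enc n w (fun i k => (M i k).val) = enc n w fun i k => (N i k).val from h])).trans h2

/-- The matrix of a packed number. -/
def decM (n w : ℕ) (x : ℕ) : Matrix (Fin n) (Fin n) (ZMod 7) :=
  Matrix.of fun i k => ((x / 2 ^ (w * n * (i : ℕ) + w * (k : ℕ)) % 2 ^ w : ℕ) : ZMod 7)

theorem decM_encM (hw : 22 ≤ w) (M : Matrix (Fin n) (Fin n) (ZMod 7)) : decM n w (encM n w M) = M := by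
  ext i k
  rw [decM, Matrix.of_apply, encM, entry_enc (f := fun i k => (M i k).val) (fun _ _ => val_lt hw _) i k,
    ZMod.natCast_zmod_val]

theorem mulG_encM {cm dm : ℕ} (hw : 22 ≤ w) (hn : n ≤ 45)
    (hcm : cm = enc n w fun _ k => if (k : ℕ) = 0 then 2 ^ w - 1 else 0) (hdm : dm = enc n w fun _ _ => 255)
    (M N : Matrix (Fin n) (Fin n) (ZMod 7)) : mulG n w cm dm (encM n w M) (encM n w N) = encM n w (M * N) := by
  have hraw : rawMul n w cm (encM n w M) (encM n w N) =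
      enc n w fun i k => ∑ j : Fin n, (M i j).val * (N j k).val := by
    rw [rawMul, force_eq, force_eq, force_eq, force_eq, rec_sum, Finset.sum_range]
    exact prod_enc hcm (fun _ _ => val_lt hw _) (fun _ _ => val_lt hw _)
  rw [mulG, force_eq, hraw, mod_enc hw hdm, encM]
  · congr
    funext i k
    rw [← ZMod.val_natCast, Nat.cast_sum, Matrix.mul_apply]
    refine congrArg ZMod.val (Finset.sum_congr rfl fun j _ => ?_)
    simp
  · intro i k
    refine (Finset.sum_le_card_nsmul _ _ 36 fun j _ => ?_).trans (by simp; omega)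
    exact Nat.mul_le_mul (Nat.le_of_lt_succ (ZMod.val_lt _)) (Nat.le_of_lt_succ (ZMod.val_lt _))

end CfsgLib.ON45
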