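/-
The relators of the O'Nan group hold for the seven matrices up to scalars.
-/
import Cfsg.Agent.Lib.ONCover45.Packed
import Cfsg.Agent.Lib.ONCover45.Data
import Cfsg.Agent.Lib.CosetEnum.PresON

set_option autoImplicit false
set_option maxRecDepth 1000000

namespace CfsgLib.ON45

open CfsgLib.CosetEnum

/-- The mask of one column. -/
def cmN : ℕ := (2 ^ (1080 * 45) - 1) / (2 ^ 1080 - 1) * (2 ^ 24 - 1)

/-- The mask of the quotients. -/
def dmN : ℕ := (2 ^ (1080 * 45) - 1) / (2 ^ 24 - 1) * 255

theorem cmN_eq : cmN = enc 45 24 fun _ k => if (k : ℕ) = 0 then 2 ^ 24 - 1 else 0 := by decide +kernel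

theorem dmN_eq : dmN = enc 45 24 fun _ _ => 255 := by decide +kernel

/-- The product of a word of generators. -/
noncomputable def runN (w : List ℕ) : ℕ :=
  List.rec (motive := fun _ => ℕ) oneN (fun x _ ih => mulG 45 24 cmN dmN (mats.getD x oneN) ih) w

/-- The matrices of the generators. -/
noncomputable def matM (x : ℕ) : Matrix (Fin 45) (Fin 45) (ZMod 7) := decM 45 24 (mats.getD x oneN)

theorem encM_one : encM 45 24 1 = oneN := by decide +kernel

theorem encM_four : encM 45 24 ((4 : ZMod 7) • (1 : Matrix (Fin 45) (Fin 45) (ZMod 7))) = fourN := by decide +kernel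

theorem encM_mats : ∀ x < 7, encM 45 24 (decM 45 24 (mats.getD x oneN)) = mats.getD x oneN := by decide +kernel

theorem run_eq : ∀ w : List ℕ, runN w = encM 45 24 (w.map matM).prod := by
  intro w
  induction w with
  | nil => rw [List.map_nil, List.prod_nil, encM_one]; rfl
  | cons x w ih =>
    have hx : encM 45 24 (matM x) = mats.getD x oneN := by
      by_cases h : x < 7
      · exact encM_mats x h
      · rw [matM, List.getD_eq_default _ _ (show mats.length ≤ x from not_lt.mp h), ← encM_one,
          decM_encM (by norm_num)]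
    rw [List.map_cons, List.prod_cons, ← mulG_encM (by norm_num) le_rfl cmN_eq dmN_eq, hx, ← ih]
    rfl

/-- A relator holds up to the scalar 4. -/
noncomputable def okRel (w : List ℕ) : Bool := Nat.beq (runN w) oneN || Nat.beq (runN w) fourN

theorem rels_ok : (presON.rels.all okRel) = true := by decide +kernel

theorem four_word : [6, 3, 2, 3, 2, 1, 2, 6, 3, 2, 3, 1, 6, 3, 2, 3, 2, 1, 2, 6, 3, 2, 3] ∈ presON.rels ∧
    Nat.beq (runN [6, 3, 2, 3, 2, 1, 2, 6, 3, 2, 3, 1, 6, 3, 2, 3, 2, 1, 2, 6, 3, 2, 3]) fourN = true := by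
  decide +kernel

theorem not_comm : Nat.beq (runN [0, 1]) (runN [1, 0]) = false := by decide +kernel

end CfsgLib.ON45
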