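/-
A subgroup of `SL(45, 7)` with centre of order 3 and the O'Nan group as central quotient.
-/
import Cfsg.Agent.Lib.ONCover45.Checks
import Cfsg.Agent.Lib.CosetEnum.ONOrder
import Cfsg.Prelude.Def_Sporadic

set_option autoImplicit false
set_option maxRecDepth 1000000

namespace CfsgLib.ON45

open CfsgLib.CosetEnum Matrix

theorem matM_sq (x : ℕ) : matM x * matM x = 1 := by
  by_cases h : x < 7
  · have key : ∀ y < 7, Nat.beq (runN [y, y]) oneN = true := by decide +kernel
    have e := Nat.eq_of_beq_eq_true (key x h)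
    rw [run_eq, ← encM_one] at e
    simpa using encM_injective (by norm_num) e
  · rw [matM, List.getD_eq_default _ _ (show mats.length ≤ x from not_lt.mp h), ← encM_one,
      decM_encM (by norm_num), one_mul]

theorem rel_val {w : List ℕ} (hw : w ∈ presON.rels) : (w.map matM).prod = 1 ∨ (w.map matM).prod = (4 : ZMod 7) • 1 := by
  have h := List.all_eq_true.mp rels_ok w hw
  simp only [okRel, Bool.or_eq_true] at h
  rcases h with h | h
  · exact Or.inl (encM_injective (w := 24) (by norm_num) (by rw [← run_eq, encM_one]; exact Nat.eq_of_beq_eq_true h))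
  · exact Or.inr (encM_injective (w := 24) (by norm_num) (by rw [← run_eq, encM_four]; exact Nat.eq_of_beq_eq_true h))

theorem det_four : ((4 : ZMod 7) • (1 : Matrix (Fin 45) (Fin 45) (ZMod 7))).det = 1 := by
  rw [Matrix.det_smul, Matrix.det_one, mul_one, Fintype.card_fin]
  decide

theorem det_prod {n : ℕ} (f : ℕ → Matrix (Fin n) (Fin n) (ZMod 7)) : ∀ w : List ℕ,
    (w.map f).prod.det = (w.map fun x => (f x).det).prod := by
  intro w
  induction w with
  | nil => simp
  | cons x w ih => simp [Matrix.det_mul, ih]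

/-- A sign for a number below seven. -/
def sgn (g : Fin 7 → Bool) (x : ℕ) : ZMod 7 := if h : x < 7 then (if g ⟨x, h⟩ then 1 else 6) else 1

theorem sgn_forced : ∀ g : Fin 7 → Bool,
    (presON.rels.all fun w => decide ((w.map (sgn g)).prod = 1)) = true → ∀ i, g i = true := by
  decide +kernel

theorem det_forced (d : ℕ → ZMod 7) (hd : ∀ x, d x * d x = 1) (h7 : ∀ x, 7 ≤ x → d x = 1)
    (h : ∀ w ∈ presON.rels, (w.map d).prod = 1) : ∀ x, d x = 1 := by
  have two : ∀ a : ZMod 7, a * a = 1 → a = 1 ∨ a = 6 := by decide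
  have hs : d = sgn fun i : Fin 7 => decide (d i.val = 1) := by
    funext x
    unfold sgn
    split
    · rcases two _ (hd x) with e | e <;> rw [e] <;> simp [e]
    · exact h7 x (not_lt.mp ‹_›)
  have key := sgn_forced (fun i : Fin 7 => decide (d i.val = 1)) (List.all_eq_true.mpr fun w hw =>
    decide_eq_true (by rw [← hs]; exact h w hw))
  intro x
  by_cases hx : x < 7
  · exact of_decide_eq_true (key ⟨x, hx⟩)
  · exact h7 x (not_lt.mp hx)

theorem det_matM (x : ℕ) : (matM x).det = 1 := by
  refine det_forced (fun y => (matM y).det) (fun y => ?_) (fun y hy => ?_) (fun w hw => ?_) x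
  · rw [← Matrix.det_mul, matM_sq, Matrix.det_one]
  · rw [matM, List.getD_eq_default _ _ (show mats.length ≤ y from hy), ← encM_one, decM_encM (by norm_num),
      Matrix.det_one]
  · rw [← det_prod]
    rcases rel_val hw with h | h
    · rw [h, Matrix.det_one]
    · rw [h, det_four]

/-- A generator. -/
noncomputable def S (x : ℕ) : Matrix.SpecialLinearGroup (Fin 45) (ZMod 7) := ⟨matM x, det_matM x⟩

/-- The scalar 4. -/
noncomputable def S4 : Matrix.SpecialLinearGroup (Fin 45) (ZMod 7) := ⟨(4 : ZMod 7) • 1, det_four⟩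

/-- The triple cover. -/
noncomputable def H : Subgroup (Matrix.SpecialLinearGroup (Fin 45) (ZMod 7)) :=
  Subgroup.closure (Set.range S)

/-- A generator in the triple cover. -/
noncomputable def el (x : ℕ) : H := ⟨S x, Subgroup.subset_closure ⟨x, rfl⟩⟩

theorem coe_word : ∀ w : List ℕ,
    ((((w.map el).prod : H) : Matrix.SpecialLinearGroup (Fin 45) (ZMod 7)) : Matrix (Fin 45) (Fin 45) (ZMod 7)) =
      (w.map matM).prod := by
  intro w
  induction w with
  | nil => simp
  | cons x w ih =>
    rw [List.map_cons, List.prod_cons, Subgroup.coe_mul, Matrix.SpecialLinearGroup.coe_mul, ih, List.map_cons,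
      List.prod_cons]
    rfl

/-- The scalar 4 in the triple cover. -/
noncomputable def c4 : H := ([6, 3, 2, 3, 2, 1, 2, 6, 3, 2, 3, 1, 6, 3, 2, 3, 2, 1, 2, 6, 3, 2, 3].map el).prod

theorem coe_c4 : (c4 : Matrix.SpecialLinearGroup (Fin 45) (ZMod 7)) = S4 := by
  refine Subtype.ext ?_
  rw [c4, coe_word]
  exact encM_injective (w := 24) (by norm_num)
    (by rw [← run_eq, S4, encM_four]; exact Nat.eq_of_beq_eq_true four_word.2)

theorem c4_central (h : H) : h * c4 = c4 * h := by
  refine Subtype.ext ?_
  rw [Subgroup.coe_mul, Subgroup.coe_mul, coe_c4]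
  refine Subtype.ext ?_
  rw [Matrix.SpecialLinearGroup.coe_mul, Matrix.SpecialLinearGroup.coe_mul]
  simp [S4]

/-- The scalars of the triple cover. -/
noncomputable def C : Subgroup H := Subgroup.zpowers c4

theorem C_le : C ≤ Subgroup.center H :=
  Subgroup.zpowers_le.mpr (Subgroup.mem_center_iff.mpr c4_central)

instance : C.Normal := ⟨fun n hn g => by
  rw [Subgroup.mem_center_iff.mp (C_le hn) g, mul_inv_cancel_right]; exact hn⟩

/-- The image of a generator. -/
noncomputable def tau (x : ℕ) : H ⧸ C := QuotientGroup.mk' C (el x)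

theorem el_sq (x : ℕ) : el x * el x = 1 := Subtype.ext (Subtype.ext (matM_sq x))

theorem tau_sq (x : ℕ) : tau x * tau x = 1 := by rw [tau, ← map_mul, el_sq, map_one]

theorem tau_rel : ∀ w ∈ presON.rels, (w.map tau).prod = 1 := by
  intro w hw
  rw [show (w.map tau).prod = QuotientGroup.mk' C (w.map el).prod by rw [map_list_prod, List.map_map]; rfl,
    QuotientGroup.mk'_apply, QuotientGroup.eq_one_iff]
  rcases rel_val hw with h | h
  · rw [show (w.map el).prod = 1 from Subtype.ext (Subtype.ext ((coe_word w).trans h))]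
    exact one_mem _
  · rw [show (w.map el).prod = c4 from Subtype.ext (Subtype.ext
      ((coe_word w).trans (h.trans (congrArg Subtype.val coe_c4).symm)))]
    exact Subgroup.mem_zpowers c4

/-- The homomorphism from the presented group. -/
noncomputable def rep : presON.Grp →* H ⧸ C :=
  PresentedGroup.toGroup (f := tau ∘ presON.idx) (presON.lift_rel tau_sq tau_rel)

theorem rep_σ {x : ℕ} (hx : x < 7) : rep (presON.σ x) = tau x := by
  rw [Pres.σ, if_pos (show x < presON.k from hx)]
  exact (PresentedGroup.toGroup.of _).trans (congrArg tau (presON_idx x hx))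

theorem rep_surjective : Function.Surjective rep := by
  have key : ∀ g (hg : g ∈ H), QuotientGroup.mk' C ⟨g, hg⟩ ∈ rep.range := by
    intro g hg
    induction hg using Subgroup.closure_induction with
    | mem y hy =>
      obtain ⟨x, rfl⟩ := hy
      by_cases h : x < 7
      · exact ⟨presON.σ x, rep_σ h⟩
      · refine (show QuotientGroup.mk' C (el x) = 1 from ?_) ▸ one_mem _
        rw [show el x = 1 from Subtype.ext (Subtype.ext (by
          show matM x = 1
          rw [matM, List.getD_eq_default _ _ (show mats.length ≤ x from not_lt.mp h), ← encM_one,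
            decM_encM (by norm_num)])), map_one]
    | one => exact ⟨1, by rw [map_one]; exact (map_one (QuotientGroup.mk' C)).symm⟩
    | mul a b ha hb iha ihb => exact (map_mul (QuotientGroup.mk' C) ⟨a, ha⟩ ⟨b, hb⟩).symm ▸ mul_mem iha ihb
    | inv a ha iha => exact (map_inv (QuotientGroup.mk' C) ⟨a, ha⟩).symm ▸ inv_mem iha
  intro q
  obtain ⟨⟨g, hg⟩, rfl⟩ := QuotientGroup.mk'_surjective C q
  exact key g hg

theorem tau_ne : tau 0 ≠ tau 1 := by
  intro h
  have hc : (el 0)⁻¹ * el 1 ∈ C := QuotientGroup.eq.mp h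
  have hcomm := Subgroup.mem_center_iff.mp (C_le hc) (el 0)
  rw [← mul_assoc, mul_inv_cancel, one_mul, mul_assoc] at hcomm
  have h2 : el 0 * el 1 = el 1 * el 0 :=
    calc el 0 * el 1 = el 0 * ((el 0)⁻¹ * (el 1 * el 0)) := by rw [← hcomm]
      _ = el 1 * el 0 := by rw [← mul_assoc, mul_inv_cancel, one_mul]
  have h3 : ([0, 1].map matM).prod = ([1, 0].map matM).prod := by
    rw [← coe_word, ← coe_word]
    simp [h2]
  have h4 := congrArg (encM 45 24) h3
  rw [← run_eq, ← run_eq] at h4
  have h5 := not_comm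
  rw [h4, Nat.beq_refl] at h5
  exact Bool.noConfusion h5

theorem rep_injective : Function.Injective rep := by
  haveI := presON_simple
  rw [← MonoidHom.ker_eq_bot_iff]
  rcases (IsSimpleGroup.eq_bot_or_eq_top_of_normal rep.ker inferInstance) with h | h
  · exact h
  · refine absurd ?_ tau_ne
    have e : ∀ g, rep g = 1 := fun g => MonoidHom.mem_ker.mp (h ▸ Subgroup.mem_top g)
    rw [← rep_σ (show (0 : ℕ) < 7 by norm_num), ← rep_σ (show (1 : ℕ) < 7 by norm_num), e, e]

/-- The quotient by the scalars is the presented group. -/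
noncomputable def repEquiv : presON.Grp ≃* H ⧸ C := MulEquiv.ofBijective rep ⟨rep_injective, rep_surjective⟩

theorem center_quot : Subgroup.center (H ⧸ C) = ⊥ := by
  haveI := presON_simple
  haveI : IsSimpleGroup (H ⧸ C) := repEquiv.symm.isSimpleGroup
  rcases IsSimpleGroup.eq_bot_or_eq_top_of_normal (Subgroup.center (H ⧸ C)) inferInstance with h | h
  · exact h
  · refine absurd ?_ tau_ne
    have hc : tau 0 * tau 1 = tau 1 * tau 0 :=
      Subgroup.mem_center_iff.mp (h ▸ Subgroup.mem_top (tau 1)) (tau 0)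
    have h3 := tau_rel [0, 1, 0, 1, 0, 1] (by decide +kernel)
    simp only [List.map_cons, List.map_nil, List.prod_cons, List.prod_nil, mul_one] at h3
    have h2 : tau 0 * tau 1 * (tau 0 * tau 1) = 1 := by
      nth_rewrite 2 [hc]
      rw [mul_assoc, ← mul_assoc (tau 1), tau_sq, one_mul, tau_sq]
    have h1 : tau 0 * tau 1 = 1 := by
      calc tau 0 * tau 1 = tau 0 * tau 1 * (tau 0 * tau 1) * (tau 0 * tau 1) := by rw [h2, one_mul]
        _ = tau 0 * (tau 1 * (tau 0 * (tau 1 * (tau 0 * tau 1)))) := by simp only [mul_assoc]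
        _ = 1 := h3
    calc tau 0 = tau 0 * (tau 1 * tau 1) := by rw [tau_sq, mul_one]
      _ = tau 1 := by rw [← mul_assoc, h1, one_mul]

theorem center_eq : Subgroup.center H = C := by
  refine le_antisymm (fun h hh => ?_) C_le
  have hm : (QuotientGroup.mk' C h) ∈ Subgroup.center (H ⧸ C) := by
    rw [Subgroup.mem_center_iff]
    intro q
    obtain ⟨g, rfl⟩ := QuotientGroup.mk'_surjective C q
    rw [← map_mul, ← map_mul, Subgroup.mem_center_iff.mp hh g]
  rw [center_quot, Subgroup.mem_bot, QuotientGroup.mk'_apply, QuotientGroup.eq_one_iff] at hm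
  exact hm

theorem card_C : Nat.card C = 3 := by
  rw [C, Nat.card_zpowers]
  haveI : Fact (Nat.Prime 3) := ⟨Nat.prime_three⟩
  refine orderOf_eq_prime ?_ ?_
  · refine Subtype.ext (Subtype.ext ?_)
    rw [SubmonoidClass.coe_pow, coe_c4, Matrix.SpecialLinearGroup.coe_pow]
    show ((4 : ZMod 7) • (1 : Matrix (Fin 45) (Fin 45) (ZMod 7))) ^ 3 = 1
    rw [smul_pow, one_pow, show (4 : ZMod 7) ^ 3 = 1 by decide, one_smul]
  · intro h
    have e : ((4 : ZMod 7) • (1 : Matrix (Fin 45) (Fin 45) (ZMod 7))) 0 0 = (1 : Matrix (Fin 45) (Fin 45) (ZMod 7)) 0 0 := by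
      have := congrArg (fun g : H => ((g : Matrix.SpecialLinearGroup (Fin 45) (ZMod 7)) : Matrix (Fin 45) (Fin 45) (ZMod 7))) h
      simp only [coe_c4] at this
      exact congrFun (congrFun this 0) 0
    rw [Matrix.smul_apply, Matrix.one_apply_eq, smul_eq_mul, mul_one] at e
    exact absurd e (by decide)

theorem isON {G : Type} [Group G] (e : presON.Grp ≃* G) : Cfsg.IsON G :=
  ⟨(haveI := presON_simple; e.symm.isSimpleGroup), by rw [← Nat.card_congr e.toEquiv]; exact presON_card⟩

theorem realization : ∃ H : Subgroup (Matrix.SpecialLinearGroup (Fin 45) (ZMod 7)),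
    Nat.card (Subgroup.center H) = 3 ∧ Cfsg.IsON (H ⧸ Subgroup.center H) :=
  ⟨H, by rw [center_eq]; exact card_C,
    isON (repEquiv.trans (QuotientGroup.quotientMulEquivOfEq center_eq.symm))⟩

end CfsgLib.ON45
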